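import Groth.Agent.H19Grp.NeutralConstr
import Groth.Agent.H19Grp.NeutralOpen
import Groth.Agent.H28Top.Noeth
import Groth.Agent.H7Lim.Topology

/-!
# Points with a power in the neutral set
-/

set_option autoImplicit false
set_option linter.style.haveILetI false
set_option linter.unusedSectionVars false
set_option backward.isDefEq.respectTransparency.types false
set_option maxHeartbeats 800000

universe u

open CategoryTheory CategoryTheory.Limits MonoidalCategory CartesianMonoidalCategory MonObj GrpObj AlgebraicGeometry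
open Groth.Agent.H19Grp

noncomputable section

namespace Groth.Agent.H28Tau

variable {S : Scheme.{u}} (G : Over S) [GrpObj G]

/-- The power morphism on points. -/
def pw (n : ℕ) (x : G.left) : G.left := ((𝟙 G : G ⟶ G) ^ n).left x

/-- The points whose `n`-th power is in the neutral set. -/
def torSet (n : ℕ) : Set G.left := {x | pw G n x ∈ SGA3x.neutralSet G}

theorem hom_pw (n : ℕ) (x : G.left) : G.hom (pw G n x) = G.hom x :=
  congrArg (fun m : G.left ⟶ S => m x) (Over.w ((𝟙 G : G ⟶ G) ^ n))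

variable {T : Over S} (t : T.left)

theorem pow_left_apply (g : T ⟶ G) (n : ℕ) : (g ^ n).left t = pw G n (g.left t) := by
  have h : g ^ n = g ≫ (𝟙 G : G ⟶ G) ^ n := by rw [MonObj.comp_pow, Category.comp_id]
  rw [h]
  rfl

theorem one_left_apply : (1 : T ⟶ G).left t ∈ SGA3x.neutralSet G := by
  rw [Hom.one_def]
  exact one_mem_neutralSet G _

/-- The points of the neutral set form a subgroup. -/
def neutralPts : Subgroup (T ⟶ G) where
  carrier := {g | g.left t ∈ SGA3x.neutralSet G}
  one_mem' := one_left_apply G t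
  mul_mem' {a b} ha hb := by
    show (a * b).left t ∈ SGA3x.neutralSet G
    rw [Hom.mul_def, Over.comp_left, Scheme.Hom.comp_apply]
    refine mul_mem_neutralSet G _ ?_ ?_
    · rw [← Scheme.Hom.comp_apply, ← Over.comp_left, lift_fst]; exact ha
    · rw [← Scheme.Hom.comp_apply, ← Over.comp_left, lift_snd]; exact hb
  inv_mem' {a} ha := by
    show (a ≫ ι[G]).left t ∈ SGA3x.neutralSet G
    rw [Over.comp_left, Scheme.Hom.comp_apply]
    exact inv_mem_neutralSet G ha

theorem mem_torSet_iff (g : T ⟶ G) (n : ℕ) :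
    g.left t ∈ torSet G n ↔ g ^ n ∈ neutralPts G t := by
  show pw G n (g.left t) ∈ SGA3x.neutralSet G ↔ (g ^ n).left t ∈ SGA3x.neutralSet G
  rw [pow_left_apply]

/-- The field valued point of a point. -/
theorem exists_fieldPt (x : G.left) : ∃ (K : Type u) (_ : Field K) (a : Spec (CommRingCat.of K) ⟶ S)
    (g : Over.mk a ⟶ G), g.left (IsLocalRing.closedPoint K) = x :=
  ⟨G.left.residueField x, inferInstance, G.left.fromSpecResidueField x ≫ G.hom,
    Over.homMk (G.left.fromSpecResidueField x) rfl, Scheme.fromSpecResidueField_apply _ _⟩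

theorem torSet_dvd {n m : ℕ} (h : n ∣ m) : torSet G n ⊆ torSet G m := fun x hx => by
  obtain ⟨K, _, a, g, rfl⟩ := exists_fieldPt G x
  obtain ⟨k, rfl⟩ := h
  rw [mem_torSet_iff] at hx ⊢
  rw [pow_mul]
  exact pow_mem hx k

theorem torSet_gcd {n m : ℕ} {x : G.left} (hn : x ∈ torSet G n) (hm : x ∈ torSet G m) :
    x ∈ torSet G (n.gcd m) := by
  obtain ⟨K, _, a, g, rfl⟩ := exists_fieldPt G x
  rw [mem_torSet_iff] at hn hm ⊢
  rw [← zpow_natCast, Nat.gcd_eq_gcd_ab, zpow_add, zpow_mul, zpow_mul, zpow_natCast, zpow_natCast]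
  exact mul_mem (zpow_mem hn _) (zpow_mem hm _)

variable [LocallyOfFiniteType G.hom]

theorem isCompact_neutralAt (s : S) : IsCompact (neutralAt G s) := by
  have h := (isCompact_component_ept (Red.bc (S.fromSpecResidueField s) G)).image
    (pullback.fst G.hom (S.fromSpecResidueField s)).continuous
  refine (congrArg IsCompact ?_).mp h
  rw [← neutralSet_inter_fibre G s,
    show G.hom ⁻¹' {s} = Set.range (pullback.fst G.hom (S.fromSpecResidueField s)) from (G.hom.range_fiberι s).symm,
    ← Set.image_preimage_eq_inter_range]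
  exact congrArg _ (preimage_neutralSet_residueField G s).symm

theorem exists_compactOpen_supset {K : Set G.left} (hK : IsCompact K) :
    ∃ W : G.left.Opens, IsCompact (W : Set G.left) ∧ K ⊆ (W : Set G.left) := by
  obtain ⟨t, ht⟩ := hK.elim_finite_subcover (fun V : G.left.affineOpens => (V.1 : Set G.left))
    (fun V => V.1.2) (fun x _ => by
      obtain ⟨V, hV, hxV, -⟩ := G.left.isBasis_affineOpens.exists_subset_of_mem_open
        (show x ∈ (Set.univ : Set G.left) from trivial) isOpen_univ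
      obtain ⟨V', hV', rfl⟩ := hV
      exact Set.mem_iUnion.2 ⟨⟨V', hV'⟩, hxV⟩)
  refine ⟨⨆ V ∈ t, V.1, ?_, by simpa using ht⟩
  have h : ((⨆ V ∈ t, V.1 : G.left.Opens) : Set G.left) = ⋃ V ∈ t, (V.1 : Set G.left) := by simp
  rw [h]
  exact t.finite_toSet.isCompact_biUnion fun V _ => V.2.isCompact

variable [IsLocallyNoetherian S]

/-- A point over a field valued point whose powers stay in a quasi-compact open has a power in the
neutral set. -/
theorem exists_pow_mem_neutralPts {K : Type u} [Field K] {a : Spec (CommRingCat.of K) ⟶ S}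
    (g : Over.mk a ⟶ G) (W : G.left.Opens) (hW : IsCompact (W : Set G.left))
    (h : ∀ j : ℕ, (g ^ j).left (IsLocalRing.closedPoint K) ∈ W) :
    ∃ j : ℕ, 0 < j ∧ g ^ j ∈ neutralPts G (T := Over.mk a) (IsLocalRing.closedPoint K) := by
  classical
  let H := Red.bc a G
  let sec : (Over.mk a ⟶ G) → (𝟙_ (Over (Spec (CommRingCat.of K))) ⟶ H) := fun f =>
    Over.homMk (pullback.lift f.left (𝟙 _) ((Over.w f).trans (Category.id_comp a).symm))
      (pullback.lift_snd _ _ _)
  have hfst : ∀ f, (sec f).left ≫ pullback.fst G.hom a = f.left := fun f => pullback.lift_fst _ _ _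
  have hsnd : ∀ f : 𝟙_ (Over (Spec (CommRingCat.of K))) ⟶ H,
      f.left ≫ pullback.snd G.hom a = 𝟙 _ := fun f => Over.w f
  have hpow : ∀ (j : ℕ), sec (g ^ j) = (sec g) ^ j := fun j => by
    have h1 : (Over.pullback a).map ((𝟙 G : G ⟶ G) ^ j) = (𝟙 H : H ⟶ H) ^ j := by
      rw [← CategoryTheory.Functor.homMonoidHom_apply, map_pow, Functor.homMonoidHom_apply,
        CategoryTheory.Functor.map_id]
    have h2 : (sec g) ^ j = sec g ≫ (Over.pullback a).map ((𝟙 G : G ⟶ G) ^ j) := by
      rw [h1, MonObj.comp_pow, Category.comp_id]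
    refine Over.OverMorphism.ext (pullback.hom_ext ?_ ((hsnd _).trans (hsnd _).symm))
    rw [hfst, h2, Over.comp_left, Category.assoc, bc_map_fst, ← Category.assoc, hfst,
      show g ^ j = g ≫ (𝟙 G : G ⟶ G) ^ j by rw [MonObj.comp_pow, Category.comp_id]]
    rfl
  let pt : Spec (CommRingCat.of K) := IsLocalRing.closedPoint K
  haveI : LocallyOfFiniteType H.hom := inferInstanceAs (LocallyOfFiniteType (pullback.snd G.hom a))
  haveI : IsLocallyNoetherian H.left := LocallyOfFiniteType.isLocallyNoetherian H.hom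
  haveI : QuasiCompact a := inferInstance
  let WH : H.left.Opens := pullback.fst G.hom a ⁻¹ᵁ W
  have hWH : IsCompact (WH : Set H.left) :=
    (pullback.fst G.hom a).isCompact_preimage hW
  haveI : CompactSpace WH := isCompact_iff_compactSpace.1 hWH
  haveI : CompactSpace WH.toScheme := ‹CompactSpace WH›
  haveI : IsNoetherian WH.toScheme := ⟨⟩
  let q : ℕ → H.left := fun j => ((sec g) ^ j).left pt
  have hq : ∀ j, q j ∈ WH := fun j => by
    show pullback.fst G.hom a (q j) ∈ W
    rw [← Scheme.Hom.comp_apply, ← hpow, hfst]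
    exact h j
  haveI : Finite ↥(irreducibleComponents WH.toScheme) :=
    (TopologicalSpace.NoetherianSpace.finite_irreducibleComponents (α := WH.toScheme)).to_subtype
  let C : ℕ → ↥(irreducibleComponents WH.toScheme) := fun j =>
    ⟨irreducibleComponent (⟨q j, hq j⟩ : WH.toScheme), irreducibleComponent_mem_irreducibleComponents _⟩
  obtain ⟨m, m', hne, hC⟩ := Finite.exists_ne_map_eq_of_infinite C
  wlog hlt : m < m' generalizing m m'
  · exact this m' m hne.symm hC.symm (by omega)
  refine ⟨m' - m, by omega, ?_⟩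
  have hconn : q m' ∈ connectedComponent (q m) := by
    have hirr : IsIrreducible (WH.ι '' (C m).1) :=
      (isIrreducible_irreducibleComponent).image _ WH.ι.continuous.continuousOn
    refine hirr.isConnected.isPreconnected.subset_connectedComponent ?_ ?_
    · exact ⟨⟨q m, hq m⟩, mem_irreducibleComponent, rfl⟩
    · exact ⟨⟨q m', hq m'⟩, hC ▸ mem_irreducibleComponent, rfl⟩
  let tr : H ⟶ H := 𝟙 H * (toUnit H ≫ ((sec g) ^ m)⁻¹)
  have htr : ∀ j, m ≤ j → tr.left (q j) = q (j - m) := fun j hj => by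
    have : ((sec g) ^ j) ≫ tr = (sec g) ^ (j - m) := by
      rw [MonObj.comp_mul, Category.comp_id, ← Category.assoc, toUnit_unique (((sec g) ^ j) ≫ toUnit H) (𝟙 _),
        Category.id_comp, ← pow_sub _ hj]
    show tr.left (((sec g) ^ j).left pt) = _
    rw [← Scheme.Hom.comp_apply, ← Over.comp_left, this]
  have h0 : q (m - m) = ept H := by
    show ((sec g) ^ (m - m)).left pt = _
    rw [Nat.sub_self, pow_zero, Hom.one_def, toUnit_unique (toUnit _) (𝟙 _), Category.id_comp]
  have hmem : q (m' - m) ∈ connectedComponent (ept H) := by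
    rw [← h0, ← htr m le_rfl, ← htr m' (le_of_lt hlt)]
    exact tr.left.continuous.image_connectedComponent_subset (q m) ⟨_, hconn, rfl⟩
  rw [← preimage_neutralSet_field, Set.mem_preimage] at hmem
  show (g ^ (m' - m)).left pt ∈ SGA3x.neutralSet G
  rwa [← Scheme.Hom.comp_apply, ← hpow, hfst] at hmem

/-- The points with a power in the neutral set are stable under generization. -/
theorem exists_torSet_of_specializes {x y : G.left} (hyx : y ⤳ x) {n : ℕ} (hn : 0 < n)
    (hx : x ∈ torSet G n) : ∃ m : ℕ, 0 < m ∧ y ∈ torSet G m := by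
  obtain ⟨W, hW, hNW⟩ := exists_compactOpen_supset G (isCompact_neutralAt G (G.hom x))
  obtain ⟨K, _, a, g, rfl⟩ := exists_fieldPt G y
  obtain ⟨j, hj, hjm⟩ := exists_pow_mem_neutralPts G (g ^ n) W hW fun j => by
    rw [← pow_mul, pow_left_apply]
    refine (hyx.map ((𝟙 G : G ⟶ G) ^ (n * j)).left.continuous).mem_open W.2 (hNW ?_)
    have h1 : pw G (n * j) x ∈ SGA3x.neutralSet G := torSet_dvd G (dvd_mul_right n j) hx
    rw [mem_neutralSet_iff, hom_pw] at h1
    exact h1
  exact ⟨n * j, Nat.mul_pos hn hj, (mem_torSet_iff G _ g _).2 (by rwa [pow_mul])⟩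

theorem isLocallyConstructible_torSet (n : ℕ) : Topology.IsLocallyConstructible (torSet G n) :=
  haveI : IsLocallyNoetherian G.left := LocallyOfFiniteType.isLocallyNoetherian G.hom
  haveI : LocallyOfFinitePresentation G.hom := inferInstance
  haveI : QuasiSeparated G.hom := inferInstance
  H7Lim.isLocallyConstructible_preimage (isLocallyConstructible_neutralSet G) _

/-- On a quasi-compact open the torsion orders are bounded. -/
theorem exists_bound (V : G.left.Opens) (hV : IsCompact (V : Set G.left)) :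
    ∃ M : ℕ, 0 < M ∧ ∀ (n : ℕ), 0 < n → torSet G n ∩ (V : Set G.left) ⊆ torSet G M := by
  haveI : IsLocallyNoetherian G.left := LocallyOfFiniteType.isLocallyNoetherian G.hom
  haveI : CompactSpace V := isCompact_iff_compactSpace.1 hV
  haveI : CompactSpace V.toScheme := ‹CompactSpace V›
  haveI : IsNoetherian V.toScheme := ⟨⟩
  have hcons : ∀ n, Topology.IsConstructible (V.ι ⁻¹' torSet G n) := fun n => by
    have h := H7Lim.isLocallyConstructible_preimage (isLocallyConstructible_torSet G n) V.ι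
    exact h.isConstructible
  suffices ∀ Z : Set V.toScheme, IsClosed Z → ∃ M, 0 < M ∧ ∀ n, 0 < n →
      V.ι ⁻¹' torSet G n ∩ Z ⊆ V.ι ⁻¹' torSet G M by
    obtain ⟨M, hM, h⟩ := this Set.univ isClosed_univ
    exact ⟨M, hM, fun n hn x hx => h n hn (a := ⟨x, hx.2⟩) ⟨hx.1, trivial⟩⟩
  intro Z hZ
  refine H28Top.noeth_induction_irreducible
    (fun Z => ∃ M, 0 < M ∧ ∀ n, 0 < n → V.ι ⁻¹' torSet G n ∩ Z ⊆ V.ι ⁻¹' torSet G M)
    ⟨1, one_pos, fun n _ => by simp⟩ ?_ (fun Z hZ hZi ih => ?_) hZ
  · rintro A B - - ⟨M, hM, hA⟩ ⟨N, hN, hB⟩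
    refine ⟨M * N, Nat.mul_pos hM hN, fun n hn x hx => ?_⟩
    rcases hx.2 with h | h
    · exact torSet_dvd G (dvd_mul_right M N) (hA n hn ⟨hx.1, h⟩)
    · exact torSet_dvd G (dvd_mul_left N M) (hB n hn ⟨hx.1, h⟩)
  · by_cases hg : ∃ n, 0 < n ∧ hZi.genericPoint ∈ V.ι ⁻¹' torSet G n
    · obtain ⟨n₀, hn₀, hgn⟩ := hg
      obtain ⟨U, hU, ⟨z, hzU, hzZ⟩, hUE⟩ := H28Top.IsConstructible.exists_isOpen_inter_subset
        (hcons n₀) hZi (H28Top.exists_dense_of_generic_mem hZi hZ hgn)
      obtain ⟨M, hM, h⟩ := ih (Z \ U) (hZ.sdiff hU) ⟨Set.sdiff_subset, fun hh => (hh hzZ).2 hzU⟩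
      refine ⟨n₀ * M, Nat.mul_pos hn₀ hM, fun n hn x hx => ?_⟩
      by_cases hxU : x ∈ U
      · exact torSet_dvd G (dvd_mul_right n₀ M) (hUE ⟨hxU, hx.2⟩)
      · exact torSet_dvd G (dvd_mul_left M n₀) (h n hn ⟨hx.1, hx.2, hxU⟩)
    · refine ⟨1, one_pos, fun n hn x hx => absurd ?_ hg⟩
      obtain ⟨m, hm, hgm⟩ := exists_torSet_of_specializes G
        (((hZi.isGenericPoint_genericPoint hZ).specializes hx.2).map V.ι.continuous) hn hx.1
      exact ⟨m, hm, hgm⟩

/-- The points with a power in the neutral set. -/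
def tauSet : Set G.left := {x | ∃ n : ℕ, 0 < n ∧ pw G n x ∈ SGA3x.neutralSet G}

theorem tauSet_inter_eq (V : G.left.Opens) (hV : IsCompact (V : Set G.left)) :
    ∃ M, 0 < M ∧ tauSet G ∩ (V : Set G.left) = torSet G M ∩ (V : Set G.left) := by
  obtain ⟨M, hM, h⟩ := exists_bound G V hV
  exact ⟨M, hM, Set.Subset.antisymm (fun x ⟨⟨n, hn, hx⟩, hxV⟩ => ⟨h n hn ⟨hx, hxV⟩, hxV⟩)
    fun x ⟨hx, hxV⟩ => ⟨⟨M, hM, hx⟩, hxV⟩⟩

theorem isOpen_tauSet : IsOpen (tauSet G) := by
  haveI : IsLocallyNoetherian G.left := LocallyOfFiniteType.isLocallyNoetherian G.hom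
  refine isOpen_iff_forall_mem_open.2 fun x hx => ?_
  obtain ⟨_, ⟨V, hV, rfl⟩, hxV, -⟩ := G.left.isBasis_affineOpens.exists_subset_of_mem_open
    (show x ∈ (Set.univ : Set G.left) from trivial) isOpen_univ
  change Scheme.Opens G.left at V
  refine ⟨tauSet G ∩ (V : Set G.left), Set.inter_subset_left, ?_, hx, hxV⟩
  haveI : CompactSpace V.toScheme := isCompact_iff_compactSpace.1 hV.isCompact
  haveI : IsNoetherian V.toScheme := ⟨⟩
  obtain ⟨M, hM, hMV⟩ := tauSet_inter_eq G V hV.isCompact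
  have hopen : IsOpen (V.ι ⁻¹' tauSet G) := by
    refine H28Top.isOpen_of_stableUnderGeneralization ?_ fun p q hpq ⟨n, hn, hp⟩ => ?_
    · have : V.ι ⁻¹' tauSet G = V.ι ⁻¹' torSet G M := Set.ext fun z =>
        ⟨fun h => (Set.ext_iff.1 hMV (V.ι z)).1 ⟨h, z.2⟩ |>.1,
          fun h => (Set.ext_iff.1 hMV (V.ι z)).2 ⟨h, z.2⟩ |>.1⟩
      rw [this]
      exact (H7Lim.isLocallyConstructible_preimage (isLocallyConstructible_torSet G M) V.ι).isConstructible
    · exact exists_torSet_of_specializes G (hpq.map V.ι.continuous) hn hp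
  have h2 := V.ι.isOpenEmbedding.isOpenMap _ hopen
  rwa [Set.image_preimage_eq_inter_range, V.range_ι] at h2

end Groth.Agent.H28Tau
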