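import Groth.Agent.H28Tau.Basic

/-!
# Closedness of torsion sets when the neutral set is closed
-/

set_option autoImplicit false
set_option linter.style.haveILetI false
set_option linter.unusedSectionVars false
set_option backward.isDefEq.respectTransparency.types false
set_option maxHeartbeats 800000

universe u

open CategoryTheory CategoryTheory.Limits MonoidalCategory CartesianMonoidalCategory MonObj GrpObj AlgebraicGeometry
open Groth.Agent.H19Grp

noncomputable section

namespace Groth.Agent.H28Tau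

variable {S : Scheme.{u}} [IsLocallyNoetherian S] (G : Over S) [GrpObj G] [LocallyOfFiniteType G.hom]

theorem isClosed_torSet (h0 : IsClosed (SGA3x.neutralSet G)) (n : ℕ) : IsClosed (torSet G n) :=
  h0.preimage ((𝟙 G : G ⟶ G) ^ n).left.continuous

/-- A set which on every quasi-compact open agrees with a closed set is closed. -/
theorem isClosed_of_local {E : Set G.left}
    (h : ∀ V : G.left.Opens, IsCompact (V : Set G.left) →
      ∃ C : Set G.left, IsClosed C ∧ E ∩ (V : Set G.left) = C ∩ (V : Set G.left)) : IsClosed E := by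
  rw [← isOpen_compl_iff, isOpen_iff_forall_mem_open]
  intro x hx
  obtain ⟨_, ⟨V, hV, rfl⟩, hxV, -⟩ := G.left.isBasis_affineOpens.exists_subset_of_mem_open
    (show x ∈ (Set.univ : Set G.left) from trivial) isOpen_univ
  change Scheme.Opens G.left at V
  obtain ⟨C, hC, hEC⟩ := h V hV.isCompact
  exact ⟨Cᶜ ∩ (V : Set G.left), fun y hy hyE => hy.1 ((Set.ext_iff.1 hEC y).1 ⟨hyE, hy.2⟩).1,
    hC.isOpen_compl.inter V.2, fun hxC => hx ((Set.ext_iff.1 hEC x).2 ⟨hxC, hxV⟩).1, hxV⟩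

theorem isClosed_tauSet (h0 : IsClosed (SGA3x.neutralSet G)) : IsClosed (tauSet G) :=
  isClosed_of_local G fun V hV => let ⟨M, _, h⟩ := tauSet_inter_eq G V hV; ⟨_, isClosed_torSet G h0 M, h⟩

theorem isClosed_natCast_eq_zero (l : ℕ) : IsClosed {s : S | (l : S.residueField s) = 0} := by
  have h : {s : S | (l : S.residueField s) = 0} = ((S.basicOpen (l : Γ(S, ⊤))) : Set S)ᶜ := by
    ext s
    simp only [Set.mem_compl_iff, SetLike.mem_coe, Set.mem_ofPred_eq]
    rw [← S.evaluation_ne_zero_iff_mem_basicOpen (U := ⊤) s trivial, map_natCast, not_not]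
  rw [h]
  exact (S.basicOpen _).2.isClosed_compl

theorem ringExpChar_of_prime {K : Type u} [Field K] {l : ℕ} (hl : l.Prime) :
    ringExpChar K = l ↔ (l : K) = 0 := by
  constructor
  · intro h
    subst h
    by_cases h0 : ringChar K = 0
    · rw [ringExpChar, h0] at hl; norm_num at hl
    · have h1 : ringExpChar K = ringChar K := by rw [ringExpChar]; omega
      rw [h1]
      exact ringChar.Nat.cast_ringChar
  · intro h
    have hr' : (ringChar K).Prime := by
      rcases (Nat.dvd_prime hl).1 ((ringChar.spec K l).1 h) with h1 | h1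
      · exact absurd h1 CharP.ringChar_ne_one
      · rwa [h1]
    have hr : ringChar K = l :=
      ((Nat.prime_dvd_prime_iff_eq hr' hl).1 ((ringChar.spec K l).1 h))
    rw [ringExpChar, hr]
    exact max_eq_left hl.one_le

/-- The rho set is closed. -/
theorem isClosed_rhoSet (h0 : IsClosed (SGA3x.neutralSet G)) (p : S → ℕ)
    (hp : ∀ s : S, ringExpChar (S.residueField s) = p s) :
    IsClosed {x : G.left | ∃ h m : ℕ, m = p (G.hom x) ^ h ∧ pw G m x ∈ SGA3x.neutralSet G} := by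
  refine isClosed_of_local G fun V hV => ?_
  obtain ⟨M, hM, hb⟩ := exists_bound G V hV
  refine ⟨torSet G 1 ∪ ⋃ l ∈ M.primeFactors, G.hom ⁻¹' {s : S | (l : S.residueField s) = 0} ∩ torSet G (l ^ M),
    (isClosed_torSet G h0 1).union (isClosed_biUnion_finset fun l _ =>
      ((isClosed_natCast_eq_zero l).preimage G.hom.continuous).inter (isClosed_torSet G h0 _)), ?_⟩
  ext x
  simp only [Set.mem_inter_iff, Set.mem_union, Set.mem_iUnion, Set.mem_preimage, Set.mem_ofPred_eq, exists_prop]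
  refine ⟨?_, ?_⟩
  · rintro ⟨⟨h, _, rfl, hx⟩, hxV⟩
    refine ⟨?_, hxV⟩
    have hP := expChar_is_prime_or_one (S.residueField (G.hom x)) (ringExpChar (S.residueField (G.hom x)))
    rw [hp] at hP
    have hpos : 0 < p (G.hom x) := hP.elim (fun h => h.pos) (fun h => h ▸ one_pos)
    have hg : x ∈ torSet G ((p (G.hom x) ^ h).gcd M) :=
      torSet_gcd G hx (hb _ (pow_pos hpos h) ⟨hx, hxV⟩)
    by_cases hl : (p (G.hom x)).Prime ∧ p (G.hom x) ∣ M
    · refine Or.inr ⟨p (G.hom x), Nat.mem_primeFactors.2 ⟨hl.1, hl.2, hM.ne'⟩,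
        (ringExpChar_of_prime hl.1).1 (hp _), torSet_dvd G ?_ hg⟩
      obtain ⟨k, -, hk'⟩ := (Nat.dvd_prime_pow hl.1).1 (Nat.gcd_dvd_left (p (G.hom x) ^ h) M)
      rw [hk']
      refine pow_dvd_pow _ (le_trans ?_ (Nat.le_of_dvd hM (Nat.gcd_dvd_right (p (G.hom x) ^ h) M)))
      rw [hk']
      exact (Nat.lt_pow_self hl.1.one_lt).le
    · refine Or.inl ?_
      have hc : Nat.Coprime (p (G.hom x) ^ h) M := by
        rcases hP with h1 | h1
        · exact Nat.Coprime.pow_left _ (h1.coprime_iff_not_dvd.2 fun h2 => hl ⟨h1, h2⟩)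
        · rw [h1, one_pow]; exact Nat.coprime_one_left M
      rwa [hc.gcd_eq_one] at hg
  · rintro ⟨hx | ⟨l, hl, hls, hx⟩, hxV⟩
    · exact ⟨⟨0, 1, (pow_zero _).symm, hx⟩, hxV⟩
    · refine ⟨⟨M, _, ?_, hx⟩, hxV⟩
      rw [← hp, (ringExpChar_of_prime (Nat.prime_of_mem_primeFactors hl)).2 hls]

/-- The sigma set is closed in equal characteristic. -/
theorem isClosed_sigmaSet (h0 : IsClosed (SGA3x.neutralSet G)) (q : ℕ) :
    IsClosed {x : G.left | ∃ n : ℕ, 0 < n ∧ Nat.Coprime n q ∧ pw G n x ∈ SGA3x.neutralSet G} := by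
  refine isClosed_of_local G fun V hV => ?_
  obtain ⟨M, hM, hb⟩ := exists_bound G V hV
  refine ⟨⋃ d ∈ M.divisors.filter (fun d => Nat.Coprime d q), torSet G d,
    isClosed_biUnion_finset fun d _ => isClosed_torSet G h0 d, ?_⟩
  ext x
  simp only [Set.mem_inter_iff, Set.mem_iUnion, Set.mem_ofPred_eq, exists_prop, Finset.mem_filter, Nat.mem_divisors]
  refine ⟨?_, ?_⟩
  · rintro ⟨⟨n, hn, hc, hx⟩, hxV⟩
    exact ⟨⟨n.gcd M, ⟨⟨Nat.gcd_dvd_right n M, hM.ne'⟩, hc.coprime_dvd_left (Nat.gcd_dvd_left n M)⟩,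
      torSet_gcd G hx (hb n hn ⟨hx, hxV⟩)⟩, hxV⟩
  · rintro ⟨⟨d, ⟨⟨hd, -⟩, hc⟩, hx⟩, hxV⟩
    exact ⟨⟨d, Nat.pos_of_dvd_of_pos hd hM, hc, hx⟩, hxV⟩

end Groth.Agent.H28Tau
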