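import Groth.Agent.H28Tau.Basic
import Groth.Agent.H19Grp.HomFlatOpen

/-!
# Openness of the rho set when the prime-to-p power morphisms are open
-/

set_option autoImplicit false
set_option linter.style.haveILetI false
set_option linter.unusedSectionVars false
set_option backward.isDefEq.respectTransparency.types false
set_option maxHeartbeats 800000

universe u

open CategoryTheory CategoryTheory.Limits MonoidalCategory CartesianMonoidalCategory MonObj GrpObj AlgebraicGeometry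
open Groth.Agent.H19Grp

noncomputable section

namespace Groth.Agent.H28Tau

theorem dvd_pow_of_dvd_pow {d m k M : ℕ} (hd : d ∣ m ^ k) (hM : 0 < M) (hdM : d ∣ M) : d ∣ m ^ M := by
  rw [Nat.dvd_iff_prime_pow_dvd_dvd]
  intro l i hl hli
  rcases Nat.eq_zero_or_pos i with rfl | hi
  · simp
  · have hlm : l ∣ m := hl.dvd_of_dvd_pow ((dvd_pow_self l hi.ne').trans (hli.trans hd))
    have hiM : i ≤ M := (Nat.lt_pow_self hl.one_lt).le.trans (Nat.le_of_dvd hM (hli.trans hdM))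
    exact (pow_dvd_pow_of_dvd hlm i).trans (pow_dvd_pow m hiM)

variable {S : Scheme.{u}} [IsLocallyNoetherian S] (G : Over S) [GrpObj G] [IsCommMonObj G] [LocallyOfFiniteType G.hom]

theorem pw_one (x : G.left) : pw G 1 x = x := by rw [pw, pow_one]; rfl

theorem pw_mul (a b : ℕ) (x : G.left) : pw G (a * b) x = pw G b (pw G a x) := by
  obtain ⟨K, _, s, g, rfl⟩ := exists_fieldPt G x
  rw [← pow_left_apply, ← pow_left_apply, ← pow_left_apply, pow_mul]

theorem exists_open_inter_fibre (s : S) :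
    ∃ O : Set G.left, IsOpen O ∧ O ∩ G.hom ⁻¹' {s} = neutralAt G s := by
  let x : Spec (CommRingCat.of (S.residueField s : Type u)) ⟶ S := S.fromSpecResidueField s
  haveI : LocallyOfFiniteType (Red.bc x G).hom := inferInstanceAs (LocallyOfFiniteType (pullback.snd G.hom x))
  obtain ⟨O, hO, hOe⟩ := (G.hom.fiberι s).isEmbedding.isInducing.isOpen_iff.1
    (show IsOpen (X := (G.hom.fiber s : Scheme)) (connectedComponent (α := (Red.bc x G).left) (ept (Red.bc x G)))
      from isOpen_component (Red.bc x G))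
  refine ⟨O, hO, ?_⟩
  rw [show G.hom ⁻¹' {s} = Set.range (pullback.fst G.hom x) from (G.hom.range_fiberι s).symm,
    ← Set.image_preimage_eq_inter_range, ← neutralSet_inter_fibre,
    show G.hom ⁻¹' {s} = Set.range (pullback.fst G.hom x) from (G.hom.range_fiberι s).symm,
    ← Set.image_preimage_eq_inter_range]
  exact congrArg _ (hOe.trans (preimage_neutralSet_field G x).symm)

/-- An open power morphism is surjective on the neutral components. -/
theorem exists_pw_eq (n : ℕ) (hn : IsOpenMap ((𝟙 G : G ⟶ G) ^ n).left) {x : G.left}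
    (hx : x ∈ SGA3x.neutralSet G) : ∃ u ∈ SGA3x.neutralSet G, pw G n u = x := by
  obtain ⟨O, hO, hOe⟩ := exists_open_inter_fibre G (G.hom x)
  let W : G.left.Opens := ⟨pw G n '' O, hn O hO⟩
  have hin : ∀ y ∈ (W : Set G.left), G.hom y = G.hom x → ∃ u ∈ SGA3x.neutralSet G, pw G n u = y := by
    rintro _ ⟨u, hu, rfl⟩ hy
    rw [hom_pw] at hy
    exact ⟨u, neutralAt_subset_neutralSet G _ ((Set.ext_iff.1 hOe u).1 ⟨hu, hy⟩), rfl⟩
  have heW : η[G].left (G.hom x) ∈ W := by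
    refine ⟨η[G].left (G.hom x), ?_, ?_⟩
    · have : η[G].left (G.hom x) ∈ neutralAt G (G.hom x) := mem_connectedComponentIn (hom_one_apply G _)
      exact (hOe.symm ▸ this : η[G].left (G.hom x) ∈ O ∩ G.hom ⁻¹' {G.hom x}).1
    · have h := pow_left_apply G (T := 𝟙_ (Over S)) (G.hom x) (1 : 𝟙_ (Over S) ⟶ G) n
      rw [one_pow, Hom.one_def, toUnit_unique (toUnit _) (𝟙 _), Category.id_comp] at h
      exact h.symm
  obtain ⟨w, hw, ⟨h1W, -⟩, ⟨h2W, -⟩⟩ := exists_mul_eq_of_mem_neutralSet G W heW hx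
  have hwx : (G ⊗ G).hom w = G.hom x := by rw [← hw]; exact (tensor_hom_apply G w).2.2.symm
  obtain ⟨u1, hu1, hu1e⟩ := hin _ h1W ((tensor_hom_apply G w).1.trans hwx)
  obtain ⟨u2, hu2, hu2e⟩ := hin _ h2W ((tensor_hom_apply G w).2.1.trans hwx)
  -- field valued point
  let K := (G ⊗ G).left.residueField w
  let P : Over.mk ((G ⊗ G).left.fromSpecResidueField w ≫ (G ⊗ G).hom) ⟶ G ⊗ G :=
    Over.homMk ((G ⊗ G).left.fromSpecResidueField w) rfl
  let pt : Spec K := IsLocalRing.closedPoint K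
  have hP : P.left pt = w := Scheme.fromSpecResidueField_apply _ _
  obtain ⟨q, hq1, hq2⟩ := Scheme.Pullback.exists_preimage_pullback
    (f := (P ≫ fst G G).left) (g := ((𝟙 G : G ⟶ G) ^ n).left) pt u1
    ((congrArg (fst G G).left hP).trans hu1e.symm)
  let T1 := Over.mk (pullback.fst (P ≫ fst G G).left ((𝟙 G : G ⟶ G) ^ n).left ≫
    (G ⊗ G).left.fromSpecResidueField w ≫ (G ⊗ G).hom)
  let r1 : T1 ⟶ Over.mk ((G ⊗ G).left.fromSpecResidueField w ≫ (G ⊗ G).hom) :=
    Over.homMk (pullback.fst _ _) rfl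
  let g1 : T1 ⟶ G := Over.homMk (pullback.snd (P ≫ fst G G).left ((𝟙 G : G ⟶ G) ^ n).left) (by
    have h := congrArg (· ≫ G.hom) (pullback.condition (f := (P ≫ fst G G).left) (g := ((𝟙 G : G ⟶ G) ^ n).left))
    simp only [Category.assoc] at h
    rw [Over.w, Over.w] at h
    exact h.symm)
  have hg1 : g1 ^ n = r1 ≫ P ≫ fst G G := by
    rw [show g1 ^ n = g1 ≫ (𝟙 G : G ⟶ G) ^ n by rw [MonObj.comp_pow, Category.comp_id]]
    exact Over.OverMorphism.ext pullback.condition.symm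
  obtain ⟨q', hq1', hq2'⟩ := Scheme.Pullback.exists_preimage_pullback
    (f := (r1 ≫ P ≫ snd G G).left) (g := ((𝟙 G : G ⟶ G) ^ n).left) q u2
    ((congrArg (fun z => (snd G G).left (P.left z)) hq1).trans ((congrArg (snd G G).left hP).trans hu2e.symm))
  let T2 := Over.mk (pullback.fst (r1 ≫ P ≫ snd G G).left ((𝟙 G : G ⟶ G) ^ n).left ≫ T1.hom)
  let r2 : T2 ⟶ T1 := Over.homMk (pullback.fst _ _) rfl
  let g2 : T2 ⟶ G := Over.homMk (pullback.snd (r1 ≫ P ≫ snd G G).left ((𝟙 G : G ⟶ G) ^ n).left) (by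
    have h := congrArg (· ≫ G.hom) (pullback.condition (f := (r1 ≫ P ≫ snd G G).left) (g := ((𝟙 G : G ⟶ G) ^ n).left))
    simp only [Category.assoc] at h
    rw [Over.w, Over.w] at h
    exact h.symm)
  have hg2 : g2 ^ n = r2 ≫ r1 ≫ P ≫ snd G G := by
    rw [show g2 ^ n = g2 ≫ (𝟙 G : G ⟶ G) ^ n by rw [MonObj.comp_pow, Category.comp_id]]
    exact Over.OverMorphism.ext pullback.condition.symm
  have hc : ((r2 ≫ g1) * g2) ^ n = r2 ≫ r1 ≫ P ≫ μ[G] := by
    rw [mul_pow, ← MonObj.comp_pow, hg1, hg2, Hom.mul_def]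
    simp only [← Category.assoc]
    rw [← comp_lift, lift_fst_snd, Category.comp_id]
  refine ⟨((r2 ≫ g1) * g2).left q', ?_, ?_⟩
  · refine (neutralPts G (T := T2) q').mul_mem ?_ ?_
    · show (r2 ≫ g1).left q' ∈ SGA3x.neutralSet G
      rw [Over.comp_left, Scheme.Hom.comp_apply]
      exact ((congrArg (pullback.snd (P ≫ fst G G).left ((𝟙 G : G ⟶ G) ^ n).left) hq1').trans hq2).symm ▸ hu1
    · show g2.left q' ∈ SGA3x.neutralSet G
      exact hq2'.symm ▸ hu2
  · rw [← pow_left_apply, hc, Over.comp_left, Scheme.Hom.comp_apply, ← hw]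
    exact congrArg (μ[G].left) ((congrArg (fun z => P.left (r1.left z)) hq1').trans ((congrArg P.left hq1).trans hP))

/-- Generization stability of the rho set. -/
theorem exists_rho_of_specializes (p : ℕ) (hp : p.Prime ∨ p = 1)
    (hopen : ∀ n : ℕ, 0 < n → Nat.Coprime n p → IsOpenMap ((𝟙 G : G ⟶ G) ^ n).left)
    {x y : G.left} (hyx : y ⤳ x) {h : ℕ} (hx : x ∈ torSet G (p ^ h)) :
    ∃ k : ℕ, y ∈ torSet G (p ^ k) := by
  have hp0 : 0 < p := hp.elim Nat.Prime.pos (fun e => e ▸ one_pos)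
  obtain ⟨M, hM, hyM⟩ := exists_torSet_of_specializes G hyx (pow_pos hp0 h) hx
  obtain ⟨a, m, hm, hMe⟩ : ∃ a m : ℕ, Nat.Coprime m p ∧ M = p ^ a * m := by
    rcases hp with hp | rfl
    · obtain ⟨a, m, hm, he⟩ := Nat.exists_eq_pow_mul_and_not_dvd hM.ne' p hp.ne_one
      exact ⟨a, m, (hp.coprime_iff_not_dvd.2 hm).symm, he⟩
    · exact ⟨0, M, Nat.coprime_one_right M, by simp⟩
  have hm0 : 0 < m := Nat.pos_of_ne_zero fun e => by simp [e] at hMe; omega
  refine ⟨h + a, ?_⟩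
  set z := pw G (p ^ (h + a)) y with hz
  set x' := pw G (p ^ (h + a)) x with hx'
  have hzm : z ∈ torSet G m := by
    show pw G m z ∈ SGA3x.neutralSet G
    rw [hz, ← pw_mul]
    exact torSet_dvd G ⟨p ^ h, by rw [hMe, pow_add]; ring⟩ hyM
  have hx'N : x' ∈ SGA3x.neutralSet G := torSet_dvd G (pow_dvd_pow p (Nat.le_add_right h a)) hx
  have hzx : z ⤳ x' := hyx.map ((𝟙 G : G ⟶ G) ^ (p ^ (h + a))).left.continuous
  obtain ⟨W, hW, hNW⟩ := exists_compactOpen_supset G (isCompact_neutralAt G (G.hom x'))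
  obtain ⟨B, hB, hb⟩ := exists_bound G W hW
  have hcop : Nat.Coprime (m ^ B) p := hm.pow_left B
  obtain ⟨u, hu, hue⟩ := exists_pw_eq G _ (hopen _ (pow_pos hm0 B) hcop) hx'N
  have huW : u ∈ W := by
    refine hNW ?_
    rw [← hue, hom_pw, ← mem_neutralSet_iff]
    exact hu
  obtain ⟨z', hz'W, hz'e⟩ := hzx.mem_open ((hopen _ (pow_pos hm0 B) hcop) W W.2) ⟨u, huW, hue⟩
  change pw G (m ^ B) z' = z at hz'e
  have hz'm : z' ∈ torSet G (m ^ B * m) := by
    show pw G (m ^ B * m) z' ∈ SGA3x.neutralSet G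
    rw [pw_mul, hz'e]
    exact hzm
  have hd := torSet_gcd G hz'm (hb _ (Nat.mul_pos (pow_pos hm0 B) hm0) ⟨hz'm, hz'W⟩)
  have hz'B : z' ∈ torSet G (m ^ B) :=
    torSet_dvd G (dvd_pow_of_dvd_pow (k := B + 1) (by rw [pow_succ]; exact Nat.gcd_dvd_left _ _) hB
      (Nat.gcd_dvd_right _ _)) hd
  show z ∈ SGA3x.neutralSet G
  rw [← hz'e]
  exact hz'B

theorem isOpen_rhoSet (p : ℕ) (hS : ∀ s : S, ringExpChar (S.residueField s) = p)
    (hopen : ∀ n : ℕ, 0 < n → Nat.Coprime n p → IsOpenMap ((𝟙 G : G ⟶ G) ^ n).left) :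
    IsOpen {x : G.left | ∃ h : ℕ, pw G (p ^ h) x ∈ SGA3x.neutralSet G} := by
  haveI : IsLocallyNoetherian G.left := LocallyOfFiniteType.isLocallyNoetherian G.hom
  refine isOpen_iff_forall_mem_open.2 fun x hx => ?_
  have hp : p.Prime ∨ p = 1 := by
    rw [← hS (G.hom x)]
    exact expChar_is_prime_or_one (S.residueField (G.hom x)) _
  obtain ⟨_, ⟨V, hV, rfl⟩, hxV, -⟩ := G.left.isBasis_affineOpens.exists_subset_of_mem_open
    (show x ∈ (Set.univ : Set G.left) from trivial) isOpen_univ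
  change Scheme.Opens G.left at V
  haveI : CompactSpace V.toScheme := isCompact_iff_compactSpace.1 hV.isCompact
  haveI : IsNoetherian V.toScheme := ⟨⟩
  obtain ⟨M, hM, hb⟩ := exists_bound G V hV.isCompact
  have heq : V.ι ⁻¹' {x : G.left | ∃ h : ℕ, pw G (p ^ h) x ∈ SGA3x.neutralSet G} =
      V.ι ⁻¹' torSet G (p ^ M) := by
    ext z
    refine ⟨fun ⟨h, hz⟩ => ?_, fun hz => ⟨M, hz⟩⟩
    have hd := torSet_gcd G (hz : V.ι z ∈ torSet G (p ^ h))
      (hb _ (pow_pos (hp.elim Nat.Prime.pos (fun e => e ▸ one_pos)) h) ⟨hz, z.2⟩)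
    exact torSet_dvd G (dvd_pow_of_dvd_pow (Nat.gcd_dvd_left _ _) hM (Nat.gcd_dvd_right _ _)) hd
  have ho : IsOpen (V.ι ⁻¹' {x : G.left | ∃ h : ℕ, pw G (p ^ h) x ∈ SGA3x.neutralSet G}) := by
    refine H28Top.isOpen_of_stableUnderGeneralization ?_ fun a b hab ⟨h, ha⟩ =>
      exists_rho_of_specializes G p hp hopen (hab.map V.ι.continuous) ha
    rw [heq]
    exact (H7Lim.isLocallyConstructible_preimage (isLocallyConstructible_torSet G (p ^ M)) V.ι).isConstructible
  exact ⟨_, Set.image_preimage_subset V.ι _, V.ι.isOpenEmbedding.isOpenMap _ ho, ⟨⟨x, hxV⟩, hx, rfl⟩⟩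

end Groth.Agent.H28Tau
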